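import Cfsg.Agent.Lib.FPD.Box
import Cfsg.Agent.Lib.Cop.Main

/-! Fixed-point-free operator groups: the theorem. -/

set_option autoImplicit false

namespace CfsgLib.FPD

universe u

theorem box : Box.{u} := fun _ _ _ _ _ _ h => h.false

end CfsgLib.FPD
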