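import Cfsg.Agent.Lib.Cop.S1Cop
import Cfsg.Agent.Lib.CoA.Red
import Cfsg.Agent.Lib.KMS.Cover

/-!
Operator groups with small fixed point subgroups: reduction of the solvability of `G` to the case
of a simple group `G`.
-/

set_option autoImplicit false

namespace CfsgLib.FPD

open Subgroup Cfsg CfsgLib.LAE CfsgLib.KMS
open scoped commutatorElement

universe u v

/-- The shape of a minimal counterexample: `X = G A`, `G` is simple, `A` acts faithfully and all
proper invariant subgroups are solvable. -/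
structure Simp {X : Type u} [Group X] (A G : Subgroup X) : Prop where
  nrm : G.Normal
  top : G ⊔ A = ⊤
  cent : centralizer (G : Set X) = ⊥
  simple : IsSimpleGroup G
  nc : ¬ IsMulCommutative G
  solv : ∀ H ≤ G, H ≠ G → A ≤ normalizer (H : Set X) → Group.IsSolvable H

/-- A class of operator situations that is closed under the reductions. -/
structure Cls (P : ∀ (X : Type u) [Group X], Subgroup X → Subgroup X → Prop) : Prop where
  norm : ∀ (X : Type u) [Group X] [Finite X] (A G : Subgroup X), P X A G →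
    A ≤ normalizer (G : Set X)
  mono : ∀ (X : Type u) [Group X] [Finite X] (A G H : Subgroup X), P X A G → H ≤ G →
    A ≤ normalizer (H : Set X) → P X A H
  map : ∀ (X : Type u) [Group X] [Finite X] (A G : Subgroup X) (Y : Type u) [Group Y] [Finite Y]
    (f : X →* Y), P X A G → Group.IsSolvable (G ⊓ f.ker : Subgroup X) → P Y (A.map f) (G.map f)
  sub : ∀ (X : Type u) [Group X] [Finite X] (A G M : Subgroup X), P X A G → A ≤ M → G ≤ M →
    P M (A.subgroupOf M) (G.subgroupOf M)
  comp : ∀ (X : Type u) [Group X] [Finite X] (A G L : Subgroup X), P X A G → G.Normal → L ≤ G →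
    fittingSubgroup X ⊓ G = ⊥ → IsComponent L → P X (A ⊓ normalizer (L : Set X)) L

section

variable {P : ∀ (X : Type u) [Group X], Subgroup X → Subgroup X → Prop}

theorem Cls.simple_case (hP : Cls P)
    (hO : ∀ (X : Type u) [Group X] [Finite X] (A G : Subgroup X), Simp A G → ¬ P X A G)
    {X : Type u} [Group X] [Finite X] {A G : Subgroup X} (h : P X A G) (hs : IsSimpleGroup G)
    (hc : ¬ IsMulCommutative G)
    (ih : ∀ (Y : Type u) [Group Y] [Finite Y] (B H : Subgroup Y), Nat.card H < Nat.card G →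
      P Y B H → Group.IsSolvable H) : False := by
  have h1 : G ≤ G ⊔ A := le_sup_left
  have h2 : A ≤ G ⊔ A := le_sup_right
  have h3 := hP.sub X A G _ h h2 h1
  set M := G ⊔ A with hM
  set G₁ := G.subgroupOf M
  set A₁ := A.subgroupOf M
  have e : G₁ ≃* G := subgroupOfEquivOfLe h1
  have hn : G₁.Normal :=
    (normal_subgroupOf_iff_le_normalizer h1).2 (sup_le le_normalizer (hP.norm X A G h))
  have ht : G₁ ⊔ A₁ = ⊤ := by
    refine map_injective (subtype_injective M) ?_
    rw [Subgroup.map_sup, map_subgroupOf_eq_of_le h1, map_subgroupOf_eq_of_le h2,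
      ← MonoidHom.range_eq_map, range_subtype]
  have hs₁ : IsSimpleGroup G₁ := e.isSimpleGroup
  have hc₁ : ¬ IsMulCommutative G₁ := fun c => hc ⟨⟨fun x y => e.symm.injective (by
    rw [map_mul, map_mul]; exact c.is_comm.comm _ _)⟩⟩
  let π := QuotientGroup.mk' (centralizer (G₁ : Set M))
  have hk : G₁ ⊓ π.ker = ⊥ := by
    rw [QuotientGroup.ker_mk']
    rcases hs₁.eq_bot_or_eq_top_of_normal ((centralizer (G₁ : Set M)).subgroupOf G₁)
      inferInstance with k | k
    · rw [inf_comm]
      exact disjoint_iff.1 (subgroupOf_eq_bot.1 k)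
    · refine (hc₁ ⟨⟨fun x y => Subtype.ext ?_⟩⟩).elim
      exact (subgroupOf_eq_top.1 k y.2) x x.2
  have hinj : Function.Injective (π.subgroupMap G₁) := by
    refine (injective_iff_map_eq_one _).2 fun x hx => Subtype.ext (mem_bot.1 ?_)
    rw [← hk]
    exact ⟨x.2, congrArg Subtype.val hx⟩
  have e' : G₁ ≃* G₁.map π := MulEquiv.ofBijective _ ⟨hinj, π.subgroupMap_surjective G₁⟩
  have h4 := hP.map M A₁ G₁ _ π h3 (by rw [hk]; infer_instance)
  refine hO _ _ _ ⟨hn.map π (QuotientGroup.mk'_surjective _), ?_, ?_, e'.symm.isSimpleGroup,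
    fun c => hc₁ ⟨⟨fun x y => e'.injective (by
      rw [map_mul, map_mul]; exact c.is_comm.comm _ _)⟩⟩, fun H k1 k2 k3 =>
    ih _ _ H ?_ (hP.mono _ _ _ H h4 k1 k3)⟩ h4
  · rw [← Subgroup.map_sup, ht, map_top_of_surjective _ (QuotientGroup.mk'_surjective _)]
  · refine eq_bot_iff.2 fun y hy => ?_
    obtain ⟨x, rfl⟩ := QuotientGroup.mk'_surjective _ y
    refine mem_bot.2 ((QuotientGroup.eq_one_iff x).2 fun g hg => ?_)
    have h5 : ⁅g, x⁆ ∈ G₁ ⊓ π.ker := by
      refine mem_inf.2 ⟨?_, ?_⟩
      · rw [show ⁅g, x⁆ = g * (x * g⁻¹ * x⁻¹) by simp only [commutatorElement_def]; group]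
        exact mul_mem hg (hn.conj_mem _ (inv_mem hg) x)
      · rw [MonoidHom.mem_ker, map_commutatorElement, commutatorElement_eq_one_iff_mul_comm]
        exact hy _ (mem_map_of_mem π hg)
    rwa [hk, mem_bot, commutatorElement_eq_one_iff_mul_comm] at h5
  · rw [← Nat.card_congr e.toEquiv, Nat.card_congr e'.toEquiv]
    exact Core.card_lt_of_lt (k1.lt_of_ne k2)

theorem Cls.red_aux (hP : Cls P)
    (hO : ∀ (X : Type u) [Group X] [Finite X] (A G : Subgroup X), Simp A G → ¬ P X A G) (n : ℕ) :
    ∀ (X : Type u) [Group X] [Finite X] (A G : Subgroup X), Nat.card G = n → P X A G →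
      Group.IsSolvable G := by
  induction n using Nat.strong_induction_on with
  | _ n ih =>
  suffices ∀ (X : Type u) [Group X] [Finite X] (A G : Subgroup X), G.Normal → Nat.card G = n →
      P X A G → Group.IsSolvable G from fun X _ _ A G hn h => Coprime.isSolvable_of_mulEquiv
    (subgroupOfEquivOfLe le_normalizer) (this _ _ _ inferInstance
      ((Core.card_subgroupOf_of_le le_normalizer).trans hn)
      (hP.sub X A G _ h (hP.norm X A G h) le_normalizer))
  intro X _ _ A G hG hn h
  by_cases hF : fittingSubgroup X ⊓ G = ⊥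
  · by_cases h0 : G = ⊥
    · rw [h0]; infer_instance
    obtain ⟨L, hL, hLG⟩ := CoA.exists_comp_le hF hG.isSubnormal le_rfl h0
    have hs := CoA.simple_of_comp hF hL hLG
    have hc := Comp.qs_not_isMulCommutative hL.2
    have ns : ¬ Group.IsSolvable L := fun e => hc ⟨⟨IsSimpleGroup.comm_iff_isSolvable.2 e⟩⟩
    obtain rfl : L = G := by_contra fun e =>
      ns (ih _ (hn ▸ Core.card_lt_of_lt (hLG.lt_of_ne e)) X _ L rfl (hP.comp X A G L h hG hLG hF hL))
    exact (hP.simple_case hO h hs hc fun Y _ _ B H h1 h2 => ih _ (hn ▸ h1) Y B H rfl h2).elim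
  have := CoA.fit_inf_normal (G := G)
  have := CoA.fit_inf_solvable (G := G)
  let π := QuotientGroup.mk' (fittingSubgroup X ⊓ G)
  have h2 : Group.IsSolvable π.ker := by rwa [QuotientGroup.ker_mk']
  have h1 : Group.IsSolvable (G.map π) :=
    ih _ (hn ▸ CoA.card_map_lt hF inf_le_right) _ _ _ rfl (hP.map X A G _ π h
      (Group.isSolvable_of_isSolvable_injective (inclusion_injective inf_le_right)))
  have := Core.isSolvable_comap π (G.map π)
  exact Group.isSolvable_of_isSolvable_injective (inclusion_injective (le_comap_map π G))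

/-- Reduction to the simple case. -/
theorem Cls.red (hP : Cls P)
    (hO : ∀ (X : Type u) [Group X] [Finite X] (A G : Subgroup X), Simp A G → ¬ P X A G)
    {X : Type u} [Group X] [Finite X] {A G : Subgroup X} (h : P X A G) : Group.IsSolvable G :=
  hP.red_aux hO _ X A G rfl h

end

section

variable {X : Type u} [Group X] {A G : Subgroup X}

theorem Simp.AG (h : Simp A G) : A ≤ normalizer (G : Set X) :=
  have := h.nrm
  le_normalizer_of_normal

theorem Simp.not_solvable (h : Simp A G) : ¬ Group.IsSolvable G := fun e =>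
  have := h.simple
  h.nc ⟨⟨IsSimpleGroup.comm_iff_isSolvable.2 e⟩⟩

/-- Subgroups normalized by the simple group. -/
theorem Simp.eq_bot_or (h : Simp A G) {R : Subgroup X} (hR : R ≤ G)
    (hn : G ≤ normalizer (R : Set X)) : R = ⊥ ∨ R = G := by
  rcases h.simple.eq_bot_or_eq_top_of_normal (R.subgroupOf G)
    ((normal_subgroupOf_iff_le_normalizer hR).2 hn) with k | k
  · exact Or.inl (le_bot_iff.1 (disjoint_iff.1 (subgroupOf_eq_bot.1 k) ▸ le_inf le_rfl hR))
  · exact Or.inr (le_antisymm hR (subgroupOf_eq_top.1 k))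

theorem Simp.eq_bot (h : Simp A G) {R : Subgroup X} (hR : R ≤ G)
    (hn : G ≤ normalizer (R : Set X)) (hs : Group.IsSolvable R) : R = ⊥ :=
  (h.eq_bot_or hR hn).resolve_right fun e => h.not_solvable (e ▸ hs)

theorem Simp.supHy [Finite X] (h : Simp A G) (hA : Group.IsNilpotent A)
    (hf : G ⊓ centralizer (A : Set X) = ⊥) : Cop.SupHy A G where
  nil := hA
  top := h.top
  fix := hf
  cent := h.cent
  nop p R hp hR h1 h2 := by
    have := Fact.mk hp
    have := hR.isNilpotent
    exact h.eq_bot h1 h2 inferInstance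
  solv := h.solv

theorem sub_norm {M : Subgroup X} (h : A ≤ normalizer (G : Set X)) :
    A.subgroupOf M ≤ normalizer (G.subgroupOf M : Set M) := fun a ha =>
  mem_normalizer_iff.2 fun y => mem_normalizer_iff.1 (h ha) y

theorem map_norm {Y : Type*} [Group Y] (f : X →* Y) (h : A ≤ normalizer (G : Set X)) :
    A.map f ≤ normalizer (G.map f : Set Y) := (map_mono h).trans (le_normalizer_map f)

end

/-- Nilpotent fixed-point-free operator groups. -/
def PN (X : Type u) [Group X] (A G : Subgroup X) : Prop :=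
  A ≤ normalizer (G : Set X) ∧ Group.IsNilpotent A ∧ G ⊓ centralizer (A : Set X) = ⊥

/-- Coprime operator groups with fixed points of odd order. -/
def PC (X : Type u) [Group X] (A G : Subgroup X) : Prop :=
  A ≤ normalizer (G : Set X) ∧ (Nat.card A).Coprime (Nat.card G) ∧
    Odd (Nat.card (G ⊓ centralizer (A : Set X) : Subgroup X))

theorem cls_PN : Cls PN.{u} where
  norm _ _ _ _ _ h := h.1
  mono _ _ _ _ _ _ h h1 h2 := ⟨h2, h.2.1, eq_bot_iff.2 ((inf_le_inf_right _ h1).trans h.2.2.le)⟩
  map X _ _ A G Y _ _ f h hs := by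
    obtain ⟨h1, h2, h3⟩ := h
    refine ⟨map_norm f h1, Group.nilpotent_of_surjective _ (f.subgroupMap_surjective A),
      eq_bot_iff.2 ?_⟩
    rintro _ ⟨⟨g, hg, rfl⟩, hc⟩
    refine mem_bot.2 (Cop.mem_of_nil h2 h1 h3 (K := G ⊓ f.ker) inf_le_left
      ((le_inf h1 le_normalizer_of_normal).trans inf_normalizer_le_normalizer_inf) hs hg
      fun a ha => mem_inf.2 ⟨?_, ?_⟩).2
    · rw [show ⁅g, a⁆ = g * (a * g⁻¹ * a⁻¹) by simp only [commutatorElement_def]; group]
      exact mul_mem hg (conj_mem_of_mem_normalizer (h1 ha) (inv_mem hg))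
    · rw [MonoidHom.mem_ker, map_commutatorElement, commutatorElement_eq_one_iff_mul_comm]
      exact (hc _ (mem_map_of_mem f ha)).symm
  sub X _ _ A G M h h1 h2 := by
    have := h.2.1
    refine ⟨sub_norm h.1, Group.nilpotent_of_mulEquiv (subgroupOfEquivOfLe h1).symm, ?_⟩
    rw [CoA.inf_cent_subgroupOf h1, h.2.2, bot_subgroupOf]
  comp X _ _ A G L h hG h1 hF hL := by
    have := h.2.1
    refine ⟨inf_le_right, Group.nilpotent_of_mulEquiv (subgroupOfEquivOfLe inf_le_left), ?_⟩
    obtain ⟨δ, hδ⟩ := CoA.exists_inj hF hL h1 A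
    have h2 := card_dvd_of_injective δ hδ
    rw [h.2.2, card_bot, Nat.dvd_one] at h2
    exact eq_bot_of_card_eq _ h2

theorem solv_or {X : Type u} [Group X] [Finite X] {A K : Subgroup X}
    (h : (Nat.card A).Coprime (Nat.card K)) : Group.IsSolvable A ∨ Group.IsSolvable K := by
  rcases Nat.even_or_odd (Nat.card A) with h1 | h1
  · exact Or.inr (CfsgLib.FT.odd_order_solvable
      (Nat.coprime_two_left.1 (h.coprime_dvd_left h1.two_dvd)))
  · exact Or.inl (CfsgLib.FT.odd_order_solvable h1)

theorem cls_PC : Cls PC.{u} where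
  norm _ _ _ _ _ h := h.1
  mono _ _ _ _ _ _ h h1 h2 := ⟨h2, h.2.1.coprime_dvd_right (card_dvd_of_le h1),
    h.2.2.of_dvd_nat (card_dvd_of_le (inf_le_inf_right _ h1))⟩
  map X _ _ A G Y _ _ f h hs := by
    obtain ⟨h1, h2, h3⟩ := h
    refine ⟨map_norm f h1, (h2.coprime_dvd_left (card_map_dvd A f)).coprime_dvd_right
      (card_map_dvd G f), ?_⟩
    rw [← Coprime.map_inf_centralizer f h1 (h2.coprime_dvd_right (card_dvd_of_le inf_le_left))
      (Or.inr hs)]
    exact h3.of_dvd_nat (card_map_dvd _ f)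
  sub X _ _ A G M h h1 h2 := by
    refine ⟨sub_norm h.1, ?_, ?_⟩
    · rw [Core.card_subgroupOf_of_le h1, Core.card_subgroupOf_of_le h2]
      exact h.2.1
    · rw [CoA.inf_cent_subgroupOf h1, Core.card_subgroupOf_of_le (inf_le_left.trans h2)]
      exact h.2.2
  comp X _ _ A G L h hG h1 hF hL := by
    refine ⟨inf_le_right, (h.2.1.coprime_dvd_left (card_dvd_of_le inf_le_left)).coprime_dvd_right
      (card_dvd_of_le h1), ?_⟩
    obtain ⟨δ, hδ⟩ := CoA.exists_inj hF hL h1 A
    exact h.2.2.of_dvd_nat (card_dvd_of_injective δ hδ)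

/-- The simple case of the theorem on nilpotent fixed-point-free operator groups. -/
def CoreN : Prop :=
  ∀ (X : Type u) [Group X] [Finite X] (A G : Subgroup X), Simp A G → Group.IsNilpotent A →
    G ⊓ centralizer (A : Set X) = ⊥ → False

/-- The simple case of the theorem on coprime operator groups with odd fixed points. -/
def CoreC : Prop :=
  ∀ (X : Type u) [Group X] [Finite X] (A G : Subgroup X), Simp A G →
    (Nat.card A).Coprime (Nat.card G) →
    Odd (Nat.card (G ⊓ centralizer (A : Set X) : Subgroup X)) → False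

theorem CoreN.amb (h : CoreN.{u}) {X : Type u} [Group X] [Finite X] {A G : Subgroup X}
    (h1 : A ≤ normalizer (G : Set X)) (h2 : Group.IsNilpotent A)
    (h3 : G ⊓ centralizer (A : Set X) = ⊥) : Group.IsSolvable G :=
  cls_PN.red (fun X _ _ A G hs hp => h X A G hs hp.2.1 hp.2.2) ⟨h1, h2, h3⟩

theorem CoreC.amb (h : CoreC.{u}) {X : Type u} [Group X] [Finite X] {A G : Subgroup X}
    (h1 : A ≤ normalizer (G : Set X)) (h2 : (Nat.card A).Coprime (Nat.card G))
    (h3 : Odd (Nat.card (G ⊓ centralizer (A : Set X) : Subgroup X))) : Group.IsSolvable G :=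
  cls_PC.red (fun X _ _ A G hs hp => h X A G hs hp.2.1 hp.2.2) ⟨h1, h2, h3⟩

section

variable {G : Type u} {A : Type v} [Group G] [Group A]

/-- The holomorph as ambient group. -/
abbrev Hol (G : Type u) [Group G] : Type u := G ⋊[MonoidHom.id (MulAut G)] MulAut G

instance [Finite G] : Finite (Hol G) := Finite.of_equiv _ SemidirectProduct.equivProd.symm

/-- The copy of `G` in the holomorph. -/
abbrev hG (G : Type u) [Group G] : Subgroup (Hol G) := (SemidirectProduct.inl : G →* Hol G).range

/-- The copy of an operator group in the holomorph. -/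
abbrev hA (φ : A →* MulAut G) (F : Subgroup A) : Subgroup (Hol G) :=
  F.map ((SemidirectProduct.inr : MulAut G →* Hol G).comp φ)

instance : (hG G).Normal := by
  rw [hG, SemidirectProduct.range_inl_eq_ker_rightHom]
  infer_instance

/-- `G` is isomorphic to its copy. -/
noncomputable def hGEquiv (G : Type u) [Group G] : G ≃* hG G :=
  MonoidHom.ofInjective SemidirectProduct.inl_injective

theorem hol_fix (φ : A →* MulAut G) (F : Subgroup A) :
    hG G ⊓ centralizer (hA φ F : Set (Hol G)) = (fix φ F).map SemidirectProduct.inl := by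
  have key : ∀ (σ : MulAut G) (g : G), (SemidirectProduct.inr σ : Hol G) * SemidirectProduct.inl g =
      SemidirectProduct.inl g * SemidirectProduct.inr σ ↔ σ g = g := by
    intro σ g
    rw [← mul_inv_eq_iff_eq_mul, ← map_inv, ← SemidirectProduct.inl_aut,
      SemidirectProduct.inl_injective.eq_iff]
    rfl
  ext x
  constructor
  · rintro ⟨⟨g, rfl⟩, h⟩
    exact mem_map_of_mem _ (mem_fix.2 fun a ha => (key _ _).1 (h _ (mem_map_of_mem _ ha)))
  · rintro ⟨g, hg, rfl⟩
    refine ⟨⟨g, rfl⟩, ?_⟩
    rintro _ ⟨a, ha, rfl⟩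
    exact (key _ _).2 (mem_fix.1 hg a ha)

/-- Nilpotent fixed-point-free operator groups force solvability. -/
theorem CoreN.sol (h : CoreN.{u}) [Finite G] (φ : A →* MulAut G) {F : Subgroup A}
    (hF : Group.IsNilpotent F) (hf : fix φ F = ⊥) : Group.IsSolvable G :=
  Coprime.isSolvable_of_mulEquiv (hGEquiv G).symm (h.amb (A := hA φ F) le_normalizer_of_normal
    (Group.nilpotent_of_surjective _ (MonoidHom.subgroupMap_surjective _ F))
    (by rw [hol_fix, hf, Subgroup.map_bot]))

/-- Coprime operator groups with fixed points of odd order force solvability. -/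
theorem CoreC.sol (h : CoreC.{u}) [Finite G] (φ : A →* MulAut G) {F : Subgroup A}
    (hF : (Nat.card F).Coprime (Nat.card G)) (hf : Odd (Nat.card (fix φ F))) :
    Group.IsSolvable G :=
  Coprime.isSolvable_of_mulEquiv (hGEquiv G).symm (h.amb (A := hA φ F) le_normalizer_of_normal
    (by
      rw [← Nat.card_congr (hGEquiv G).toEquiv]
      exact hF.coprime_dvd_left (card_map_dvd F _))
    (by rw [hol_fix]; exact hf.of_dvd_nat (card_map_dvd _ _)))

end

end CfsgLib.FPD
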