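import Cfsg.Agent.Lib.FPD.Box

/-!
Coprime operator groups with nilpotent fixed points: reduction to the simple case.
-/

set_option autoImplicit false

namespace CfsgLib.FPD

open Subgroup Cfsg CfsgLib.LAE CfsgLib.KMS

universe u v

/-- Coprime operator groups with nilpotent fixed points. -/
def PM (X : Type u) [Group X] (A G : Subgroup X) : Prop :=
  A ≤ normalizer (G : Set X) ∧ (Nat.card A).Coprime (Nat.card G) ∧
    Group.IsNilpotent (G ⊓ centralizer (A : Set X) : Subgroup X)

theorem nil_of_le {X : Type u} [Group X] {H K : Subgroup X} (h : H ≤ K)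
    (hK : Group.IsNilpotent K) : Group.IsNilpotent H :=
  Group.nilpotent_of_mulEquiv (subgroupOfEquivOfLe h)

theorem cls_PM : Cls PM.{u} where
  norm _ _ _ _ _ h := h.1
  mono _ _ _ _ _ _ h h1 h2 := ⟨h2, h.2.1.coprime_dvd_right (card_dvd_of_le h1),
    nil_of_le (inf_le_inf_right _ h1) h.2.2⟩
  map X _ _ A G Y _ _ f h hs := by
    obtain ⟨h1, h2, h3⟩ := h
    refine ⟨map_norm f h1, (h2.coprime_dvd_left (card_map_dvd A f)).coprime_dvd_right
      (card_map_dvd G f), ?_⟩
    rw [← Coprime.map_inf_centralizer f h1 (h2.coprime_dvd_right (card_dvd_of_le inf_le_left))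
      (Or.inr hs)]
    exact Group.nilpotent_of_surjective _ (f.subgroupMap_surjective _)
  sub X _ _ A G M h h1 h2 := by
    refine ⟨sub_norm h.1, ?_, ?_⟩
    · rw [Core.card_subgroupOf_of_le h1, Core.card_subgroupOf_of_le h2]
      exact h.2.1
    · have := h.2.2
      rw [CoA.inf_cent_subgroupOf h1]
      exact Group.nilpotent_of_mulEquiv (subgroupOfEquivOfLe (inf_le_left.trans h2)).symm
  comp X _ _ A G L h hG h1 hF hL := by
    refine ⟨inf_le_right, (h.2.1.coprime_dvd_left (card_dvd_of_le inf_le_left)).coprime_dvd_right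
      (card_dvd_of_le h1), ?_⟩
    obtain ⟨δ, hδ⟩ := CoA.exists_inj hF hL h1 A
    have := h.2.2
    exact Group.nilpotent_of_mulEquiv (MonoidHom.ofInjective hδ).symm

/-- The simple case of the theorem on coprime operator groups with nilpotent fixed points of even
order. -/
def CoreM : Prop :=
  ∀ (X : Type u) [Group X] [Finite X] (A G : Subgroup X), Simp A G →
    (Nat.card A).Coprime (Nat.card G) →
    Group.IsNilpotent (G ⊓ centralizer (A : Set X) : Subgroup X) →
    Even (Nat.card (G ⊓ centralizer (A : Set X) : Subgroup X)) → False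

theorem CoreM.amb (h : CoreM.{u}) (b : Box.{u}) {X : Type u} [Group X] [Finite X]
    {A G : Subgroup X} (h1 : A ≤ normalizer (G : Set X)) (h2 : (Nat.card A).Coprime (Nat.card G))
    (h3 : Group.IsNilpotent (G ⊓ centralizer (A : Set X) : Subgroup X)) : Group.IsSolvable G :=
  cls_PM.red (fun X _ _ A G hs hp => (Nat.even_or_odd _).elim (h X A G hs hp.2.1 hp.2.2)
    (b.coreC X A G hs hp.2.1)) ⟨h1, h2, h3⟩

section

variable {G : Type u} {A : Type v} [Group G] [Group A] [Finite G]

/-- Coprime operator groups with nilpotent fixed points force solvability. -/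
theorem CoreM.sol (h : CoreM.{u}) (b : Box.{u}) (φ : A →* MulAut G) {F : Subgroup A}
    (hF : (Nat.card F).Coprime (Nat.card G)) (hf : Group.IsNilpotent (fix φ F)) :
    Group.IsSolvable G :=
  Coprime.isSolvable_of_mulEquiv (hGEquiv G).symm (h.amb b (A := hA φ F) le_normalizer_of_normal
    (by
      rw [← Nat.card_congr (hGEquiv G).toEquiv]
      exact hF.coprime_dvd_left (card_map_dvd F _))
    (by rw [hol_fix]; exact Group.nilpotent_of_surjective _ (MonoidHom.subgroupMap_surjective _ _)))

theorem fix_top_eq [MulDistribMulAction A G] :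
    fix (MulDistribMulAction.toMulAut A G) ⊤ = FixedPoints.subgroup A G := by
  ext g
  rw [mem_fix, FixedPoints.mem_subgroup]
  exact ⟨fun h a => h a (mem_top a), fun h a _ => h a⟩

theorem CoreM.s4319 (h : CoreM.{u}) (b : Box.{u}) [MulDistribMulAction A G]
    (hcop : (Nat.card G).Coprime (Nat.card A))
    (hC : Group.IsNilpotent ↥(FixedPoints.subgroup A G) ∨
      Odd (Nat.card ↥(FixedPoints.subgroup A G))) : Group.IsSolvable G := by
  have hc : (Nat.card (⊤ : Subgroup A)).Coprime (Nat.card G) := by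
    rw [card_top]
    exact hcop.symm
  rw [← fix_top_eq] at hC
  rcases hC with hC | hC
  · exact h.sol b _ hc hC
  · exact b.solC _ hc hC

end

section

variable {X : Type u} [Group X] [Finite X] {A G : Subgroup X}

theorem Simp.even (h : Simp A G) : Even (Nat.card G) :=
  Nat.not_odd_iff_even.1 fun e => h.not_solvable (CfsgLib.FT.odd_order_solvable e)

theorem Simp.odd (h : Simp A G) (hc : (Nat.card A).Coprime (Nat.card G)) : Odd (Nat.card A) :=
  Nat.coprime_two_right.1 (hc.coprime_dvd_right h.even.two_dvd)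

/-- Glauberman's lemma for an invariant subgroup. -/
theorem gl_of_coprime (hc : (Nat.card A).Coprime (Nat.card G)) {K W : Subgroup X} (hK : K ≤ G)
    (hAK : A ≤ normalizer (K : Set X)) (hW : ∀ a ∈ A, ∃ k ∈ K, ∃ w ∈ W, a = k * w) :
    ∃ k ∈ K, ∀ a ∈ A, k * a * k⁻¹ ∈ W :=
  have hcK := hc.coprime_dvd_right (card_dvd_of_le hK)
  Coprime.exists_conj_mem_of_subset_mul hAK hcK (solv_or hcK) hW

/-- An invariant Sylow subgroup containing a fixed involution. -/
theorem exists_syl_even (hG : A ≤ normalizer (G : Set X)) (hc : (Nat.card A).Coprime (Nat.card G))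
    (he : Even (Nat.card (G ⊓ centralizer (A : Set X) : Subgroup X))) :
    ∃ S : Subgroup X, IsSylowIn 2 S G ∧ A ≤ normalizer (S : Set X) ∧
      ∃ x ∈ S, x ≠ 1 ∧ x * x = 1 ∧ x ∈ centralizer (A : Set X) := by
  obtain ⟨x, hx⟩ := exists_prime_orderOf_dvd_card' 2 he.two_dvd
  have ox : orderOf (x : X) = 2 := (orderOf_coe x).trans hx
  have hp : IsPGroup 2 (zpowers (x : X)) := IsPGroup.of_card (n := 1) (by
    rw [Nat.card_zpowers, ox, pow_one])
  have hn : A ≤ normalizer (zpowers (x : X) : Set X) :=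
    (le_centralizer_iff.1 (zpowers_le.2 x.2.2)).trans (centralizer_le_normalizer _)
  obtain ⟨S, h1, h2, h3, h4, h5⟩ := Coprime.exists_invariant_sylow_ge' hG hc (solv_or hc) _
    (zpowers_le.2 x.2.1) hp hn
  refine ⟨S, isSylowIn_of_not_dvd_relIndex h2 h3 h4, h5, x, h1 (mem_zpowers _), fun e => ?_, ?_,
    x.2.2⟩
  · rw [e, orderOf_one] at ox
    omega
  · rw [← pow_two, ← ox, pow_orderOf_eq_one]

end

end CfsgLib.FPD
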