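import Cfsg.Agent.Lib.KMS.Main
import Cfsg.Agent.S4396

/-!
Nilpotent (and Frobenius) groups of automorphisms with fixed-point-free kernel acting on a finite
solvable group: lifting of fixed points, the order formula, generation, invariant Sylow subgroups.
-/

set_option autoImplicit false

namespace CfsgLib.FPD

open Subgroup CfsgLib.Coprime CfsgLib.Solv CfsgLib.KMS Cfsg

universe u v

variable {G : Type u} {A : Type v} [Group G] [Group A]

/-- `F` has no fixed point in `N`. -/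
def FreeOn (φ : A →* MulAut G) (F : Subgroup A) (N : Subgroup G) : Prop :=
  ∀ n ∈ N, (∀ f ∈ F, φ f n = n) → n = 1

theorem FreeOn.mono {φ : A →* MulAut G} {F : Subgroup A} {N M : Subgroup G} (h : FreeOn φ F N)
    (hM : M ≤ N) : FreeOn φ F M := fun n hn => h n (hM hn)

theorem freeOn_of_fix {φ : A →* MulAut G} {F : Subgroup A} (h : fix φ F = ⊥) (N : Subgroup G) :
    FreeOn φ F N := fun n _ hn => fix_eq_bot_iff.1 h n hn

theorem FreeOn.fix_sub {φ : A →* MulAut G} {F : Subgroup A} {N : Subgroup G} (h : FreeOn φ F N)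
    (hN : AutInv φ N) : fix (subAut φ N hN) F = ⊥ :=
  fix_eq_bot_iff.2 fun g hg => Subtype.ext (h g g.2 fun a ha => congrArg Subtype.val (hg a ha))

theorem exists_inv_elem' [Finite G] {φ : A →* MulAut G} {K : Subgroup G} [K.Normal]
    (hK : AutInv φ K) (hs : Group.IsSolvable K) (h1 : K ≠ ⊥) :
    ∃ (p : ℕ) (N : Subgroup G), p.Prime ∧ N.Normal ∧ AutInv φ N ∧ N ≤ K ∧ N ≠ ⊥ ∧
      IsMulCommutative N ∧ ∀ x ∈ N, x ^ p = 1 := by
  have := (nontrivial_iff_ne_bot K).2 h1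
  obtain ⟨p, V, hp, hc, hV, hcomm, hexp⟩ := Frob.exists_characteristic_elementary (G := K)
  refine ⟨p, V.map K.subtype, hp, inferInstance, autInv_map_char hK V, map_subtype_le _, ?_,
    inferInstance, ?_⟩
  · rwa [Ne, map_eq_bot_iff_of_injective _ K.subtype_injective]
  · rintro _ ⟨x, hx, rfl⟩
    rw [← map_pow, hexp x hx, map_one]

theorem card_quot_lt [Finite G] {N : Subgroup G} (h : N ≠ ⊥) : Nat.card (G ⧸ N) < Nat.card G := by
  rw [card_eq_card_quotient_mul_card_subgroup N]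
  have h1 : 1 < Nat.card N := (one_lt_card_iff_ne_bot N).2 h
  have h0 : 0 < Nat.card (G ⧸ N) := Nat.card_pos
  nlinarith

/-- One step for the kernel. -/
theorem step_ker [Finite G] [Finite A] {φ : A →* MulAut G} {F : Subgroup A} [F.Normal]
    (hF : Group.IsNilpotent F) {N : Subgroup G} [N.Normal] (hN : AutInv φ N) (h : FreeOn φ F N)
    {p : ℕ} (hp : p.Prime) (hNp : IsPGroup p N) {g : G} (hy' : ∀ a ∈ F, g⁻¹ * φ a g ∈ N) :
    ∃ c ∈ fix φ F, c⁻¹ * g ∈ N := by
  have := Fact.mk hp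
  obtain ⟨E₁, E₂, -, _, -, h2, h3, h4, hs⟩ := exists_split F hF hp
  have hb := fix_eq_bot_of_pgroup hp hNp h3 hs (h.fix_sub hN)
  rw [fix_eq_bot_iff] at hb
  obtain ⟨u, hu, hgu⟩ := aut_exists_mul_mem_autFix (φ := φ.comp E₂.subtype) (U := N)
    (fun a => hN a) (coprime_card_of_isPGroup hNp h4) (Or.inr (isSolvable_of_isPGroup hNp)) g
    (fun a => hy' a (h2 a.2))
  have hgu' : g * u ∈ fix φ E₂ := hgu
  refine ⟨g * u, mem_fix.2 fun a ha => ?_, by simpa using N.inv_mem hu⟩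
  have hm : (g * u)⁻¹ * φ a (g * u) ∈ N := by
    rw [map_mul, show (g * u)⁻¹ * (φ a g * φ a u) = u⁻¹ * (g⁻¹ * φ a g) * φ a u by group]
    exact N.mul_mem (N.mul_mem (N.inv_mem hu) (hy' a ha)) (hN a u hu)
  have hf : (g * u)⁻¹ * φ a (g * u) ∈ fix φ E₂ :=
    mul_mem (inv_mem hgu') (autInv_fix φ E₂ a _ hgu')
  have := hb ⟨_, hm⟩ fun b hb' => Subtype.ext (mem_fix.1 hf b hb')
  exact (inv_mul_eq_one.1 (congrArg Subtype.val this)).symm

open scoped IsMulCommutative in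
/-- One step for the complement. -/
theorem step_compl [Finite A] {φ : A →* MulAut G} {F H : Subgroup A}
    (hHF : H ≤ normalizer (F : Set A)) (hfpf : ∀ h ∈ H, h ≠ 1 → F ⊓ centralizer {h} = ⊥)
    {N : Subgroup G} [N.Normal] [IsMulCommutative N] (hN : AutInv φ N) (h : FreeOn φ F N)
    {g : G} (hy' : ∀ a ∈ H, g⁻¹ * φ a g ∈ N) : ∃ c ∈ fix φ H, c⁻¹ * g ∈ N := by
  obtain ⟨m, hm⟩ := exists_cobound (ψ := subAut φ N hN) hHF hfpf (h.fix_sub hN)
    (fun k => ⟨_, hy' k k.2⟩) (fun k l => Subtype.ext (by simp [mul_assoc]))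
  refine ⟨g * m, mem_fix.2 fun a ha => ?_, by simpa using N.inv_mem m.2⟩
  have : g⁻¹ * φ a g * φ a m = m := congrArg Subtype.val (hm ⟨a, ha⟩)
  rw [map_mul]
  conv_rhs => rw [← this]
  group

theorem freeOn_quot [Finite G] [Finite A] {φ : A →* MulAut G} {F : Subgroup A} [F.Normal]
    (hF : Group.IsNilpotent F) {N M : Subgroup G} [M.Normal] (hM : AutInv φ M) (hMN : M ≤ N)
    (h : FreeOn φ F N) {p : ℕ} (hp : p.Prime) (hMp : IsPGroup p M) :
    FreeOn (quotAut φ M hM) F (N.map (QuotientGroup.mk' M)) := by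
  rintro _ ⟨n, hn, rfl⟩ hf
  obtain ⟨c, hc, hcn⟩ := step_ker hF hM (h.mono hMN) hp hMp (g := n)
    (fun a ha => QuotientGroup.eq.1 (hf a ha).symm)
  have hcN : c ∈ N := by
    have := N.mul_mem hn (N.inv_mem (hMN hcn))
    simpa using this
  rw [h c hcN (mem_fix.1 hc), inv_one, one_mul] at hcn
  exact (QuotientGroup.eq_one_iff _).2 hcn

theorem lift_aux [Finite A] {F H : Subgroup A} [F.Normal] (hF : Group.IsNilpotent F)
    (hH : H = F ∨ ∀ h ∈ H, h ≠ 1 → F ⊓ centralizer {h} = ⊥) (n : ℕ) :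
    ∀ (G : Type u) [Group G] [Finite G] (φ : A →* MulAut G), Nat.card G = n →
      ∀ (N : Subgroup G) [N.Normal], AutInv φ N → Group.IsSolvable N → FreeOn φ F N →
      ∀ g : G, (∀ a ∈ H, g⁻¹ * φ a g ∈ N) → ∃ c ∈ fix φ H, c⁻¹ * g ∈ N := by
  induction n using Nat.strong_induction_on with
  | _ n ih =>
  intro G _ _ φ hn N _ hN hs h g hg
  by_cases h1 : N = ⊥
  · subst h1
    exact ⟨g, mem_fix.2 fun a ha => (inv_mul_eq_one.1 (mem_bot.1 (hg a ha))).symm, by simp⟩
  obtain ⟨p, M, hp, _, hM, hMN, hM1, _, hexp⟩ := exists_inv_elem' hN hs h1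
  have hMp : IsPGroup p M := Core.isPGroup_of_forall_pow_eq_one hexp
  have hs' : Group.IsSolvable (N.map (QuotientGroup.mk' M)) :=
    Group.isSolvable_of_surjective ((QuotientGroup.mk' M).subgroupMap_surjective N)
  obtain ⟨c, hc, hcg⟩ := ih _ (hn ▸ card_quot_lt hM1) (G ⧸ M) (quotAut φ M hM) rfl
    (N.map (QuotientGroup.mk' M)) (autInv_map_quot hM hN) hs' (freeOn_quot hF hM hMN h hp hMp)
    (g : G ⧸ M) (fun a ha => ⟨_, hg a ha, by simp⟩)
  obtain ⟨c, rfl⟩ := QuotientGroup.mk_surjective c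
  have hc' : ∀ a ∈ H, c⁻¹ * φ a c ∈ M := fun a ha => QuotientGroup.eq.1 (mem_fix.1 hc a ha).symm
  obtain ⟨d, hd, hdc⟩ : ∃ d ∈ fix φ H, d⁻¹ * c ∈ M := by
    rcases hH with rfl | hH
    · exact step_ker hF hM (h.mono hMN) hp hMp hc'
    · exact step_compl le_normalizer_of_normal hH hM (h.mono hMN) hc'
  refine ⟨d, hd, ?_⟩
  obtain ⟨m, hm, e⟩ := hcg
  have e' : m⁻¹ * (c⁻¹ * g) ∈ M := QuotientGroup.eq.1 (by simpa using e)
  have : d⁻¹ * g = d⁻¹ * c * (m * (m⁻¹ * (c⁻¹ * g))) := by group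
  rw [this]
  exact N.mul_mem (hMN hdc) (N.mul_mem hm (hMN e'))

/-- Fixed points of the complement lift modulo an invariant solvable normal subgroup. -/
theorem lift [Finite G] [Finite A] {φ : A →* MulAut G} {F H : Subgroup A} [F.Normal]
    (hF : Group.IsNilpotent F) (hfpf : ∀ h ∈ H, h ≠ 1 → F ⊓ centralizer {h} = ⊥)
    {N : Subgroup G} [N.Normal] (hN : AutInv φ N) (hs : Group.IsSolvable N) (h : FreeOn φ F N)
    {g : G} (hg : ∀ a ∈ H, g⁻¹ * φ a g ∈ N) : ∃ c ∈ fix φ H, c⁻¹ * g ∈ N :=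
  lift_aux hF (Or.inr hfpf) _ G φ rfl N hN hs h g hg

/-- Fixed points of the kernel lift modulo an invariant solvable normal subgroup. -/
theorem lift_ker [Finite G] [Finite A] {φ : A →* MulAut G} {F : Subgroup A} [F.Normal]
    (hF : Group.IsNilpotent F) {N : Subgroup G} [N.Normal] (hN : AutInv φ N)
    (hs : Group.IsSolvable N) (h : FreeOn φ F N) {g : G} (hg : ∀ a ∈ F, g⁻¹ * φ a g ∈ N) :
    ∃ c ∈ fix φ F, c⁻¹ * g ∈ N :=
  lift_aux hF (Or.inl rfl) _ G φ rfl N hN hs h g hg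

theorem fix_quot [Finite G] [Finite A] {φ : A →* MulAut G} {F : Subgroup A} [F.Normal]
    (hF : Group.IsNilpotent F) (h : fix φ F = ⊥) {N : Subgroup G} [N.Normal] (hN : AutInv φ N)
    (hs : Group.IsSolvable N) : fix (quotAut φ N hN) F = ⊥ := by
  refine fix_eq_bot_iff.2 fun y hy => ?_
  obtain ⟨g, rfl⟩ := QuotientGroup.mk_surjective y
  obtain ⟨c, hc, hcg⟩ := lift_ker hF hN hs (freeOn_of_fix h N) (g := g)
    (fun a ha => QuotientGroup.eq.1 (hy a ha).symm)
  rw [h, mem_bot] at hc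
  rw [hc, inv_one, one_mul] at hcg
  exact (QuotientGroup.eq_one_iff _).2 hcg

/-- The fixed points of the complement on the quotient are the image of the fixed points. -/
theorem fix_quot_eq_map [Finite G] [Finite A] {φ : A →* MulAut G} {F H : Subgroup A} [F.Normal]
    (hF : Group.IsNilpotent F) (hfpf : ∀ h ∈ H, h ≠ 1 → F ⊓ centralizer {h} = ⊥)
    {N : Subgroup G} [N.Normal] (hN : AutInv φ N) (hs : Group.IsSolvable N) (h : FreeOn φ F N) :
    fix (quotAut φ N hN) H = (fix φ H).map (QuotientGroup.mk' N) := by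
  refine le_antisymm (fun y hy => ?_) ?_
  · obtain ⟨g, rfl⟩ := QuotientGroup.mk_surjective y
    obtain ⟨c, hc, hcg⟩ := lift hF hfpf hN hs h (g := g)
      (fun a ha => QuotientGroup.eq.1 (mem_fix.1 hy a ha).symm)
    exact ⟨c, hc, QuotientGroup.eq.2 hcg⟩
  · rintro _ ⟨c, hc, rfl⟩
    refine mem_fix.2 fun a ha => ?_
    change ((φ a c : G) : G ⧸ N) = (c : G ⧸ N)
    rw [mem_fix.1 hc a ha]

section Elem

variable {V : Type u} [CommGroup V] [Finite V] [Finite A]

omit [CommGroup V] [Finite V] in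
theorem card_mod {p : ℕ} [hp : Fact p.Prime] [AddCommGroup V] [Module (ZMod p) V] [Finite V]
    (ψ : A → V →+ V) (hψ1 : ∀ v, ψ 1 v = v) (hψ : ∀ a b v, ψ (a * b) v = ψ a (ψ b v))
    {E H : Subgroup A} [E.Normal] (hs : Group.IsSolvable E)
    (hfpf : ∀ h ∈ H, h ≠ 1 → E ⊓ centralizer {h} = ⊥) (hE : (Nat.card E).Coprime p)
    (h : ∀ v, (∀ a ∈ E, ψ a v = v) → v = 0) :
    Nat.card V = Nat.card {v : V // ∀ a ∈ H, ψ a v = v} ^ Nat.card H := by
  classical
  have := Fintype.ofFinite H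
  let ρ : Representation (ZMod p) A V :=
    { toFun := fun a => (ψ a).toZModLinearMap p
      map_one' := LinearMap.ext hψ1
      map_mul' := fun a b => LinearMap.ext (hψ a b) }
  have hk : (Nat.card E : ZMod p) ≠ 0 := by
    rw [Ne, ZMod.natCast_eq_zero_iff]
    exact hp.out.coprime_iff_not_dvd.1 hE.symm
  obtain ⟨W, -, h1, h2⟩ := Cfsg.Agent.S4396.free_solv (H := H) hk hfpf _ V rfl ρ h
  change ∀ w : H → V, (∀ h, w h ∈ W) → ∑ h : H, ρ h (w h) = 0 → ∀ h, w h = 0 at h1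
  let σ : (H → W) → V := fun w => ∑ h : H, ρ h (w h)
  have hinj : Function.Injective σ := fun w w' e => by
    have := h1 (fun h => (w h : V) - w' h) (fun h => W.sub_mem (w h).2 (w' h).2)
      (by simp only [map_sub, Finset.sum_sub_distrib]; exact sub_eq_zero.2 e)
    exact funext fun h => Subtype.ext (sub_eq_zero.1 (this h))
  have hsur : Function.Surjective σ := fun v => by
    have hv := h2 (Submodule.mem_top : v ∈ ⊤)
    induction hv using Submodule.iSup_induction' with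
    | mem k x hx =>
      obtain ⟨w, hw, rfl⟩ := hx
      refine ⟨Pi.single k ⟨w, hw⟩, ?_⟩
      change ∑ h : H, _ = _
      rw [Finset.sum_eq_single k (fun b _ hb => by simp [Pi.single_eq_of_ne hb]) (by simp)]
      simp
    | zero => exact ⟨0, by simp [σ]⟩
    | add x y _ _ hx hy =>
      obtain ⟨w, rfl⟩ := hx
      obtain ⟨w', rfl⟩ := hy
      exact ⟨w + w', by simp [σ, Finset.sum_add_distrib]⟩
  have hact : ∀ (k : H) (w : H → W), ρ k (σ w) = σ fun h => w (k⁻¹ * h) := fun k w => by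
    change ρ k (∑ h : H, ρ h (w h)) = ∑ h : H, ρ h (w (k⁻¹ * h))
    rw [map_sum, ← Equiv.sum_comp (Equiv.mulLeft k) fun h : H => ρ h (w (k⁻¹ * h) : V)]
    refine Finset.sum_congr rfl fun h _ => ?_
    simp
  let τ : W → {v : V // ∀ a ∈ H, ψ a v = v} := fun w =>
    ⟨σ fun _ => w, fun a ha => hact ⟨a, ha⟩ fun _ => w⟩
  have hτ : Function.Bijective τ := by
    refine ⟨fun w w' e => congrFun (hinj (congrArg Subtype.val e)) 1, fun x => ?_⟩
    obtain ⟨w, hw⟩ := hsur x.1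
    refine ⟨w 1, Subtype.ext ?_⟩
    have : w = fun _ => w 1 := funext fun k => by
      have e1 : ρ (k⁻¹ : H) (σ w) = σ w := by
        rw [hw]
        exact x.2 _ (k⁻¹).2
      have := congrFun (hinj ((hact k⁻¹ w).symm.trans e1)) 1
      simpa using this
    change (σ fun _ => w 1) = x.1
    rw [← this, hw]
  rw [← Nat.card_eq_of_bijective τ hτ, ← Nat.card_fun, Nat.card_eq_of_bijective σ ⟨hinj, hsur⟩]

theorem card_elem {ψ : A →* MulAut V} {E H : Subgroup A} [E.Normal] (hs : Group.IsSolvable E)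
    (hfpf : ∀ h ∈ H, h ≠ 1 → E ⊓ centralizer {h} = ⊥) {p : ℕ} (hp : p.Prime)
    (hexp : ∀ x : V, x ^ p = 1) (hE : (Nat.card E).Coprime p) (h : fix ψ E = ⊥) :
    Nat.card V = Nat.card (fix ψ H) ^ Nat.card H := by
  have := Fact.mk hp
  let inst : Module (ZMod p) (Additive V) := AddCommGroup.zmodModule (fun x => hexp x.toMul)
  have key := @card_mod A _ (Additive V) _ p _ _ inst _
    (fun a => MonoidHom.toAdditive (ψ a).toMonoidHom) (fun v => by simp) (fun a b v => by simp)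
    E H _ hs hfpf hE (fun v hv => fix_eq_bot_iff.1 h v.toMul fun a ha =>
      congrArg Additive.toMul (hv a ha))
  refine key.trans (congrArg (· ^ Nat.card H) (Nat.card_congr ?_))
  exact Additive.toMul.subtypeEquiv fun v =>
    ⟨fun hv => mem_fix.2 fun a ha => congrArg Additive.toMul (hv a ha),
      fun hv a ha => congrArg Additive.ofMul (mem_fix.1 hv a ha)⟩

theorem gen_elem {ψ : A →* MulAut V} {E H : Subgroup A} [E.Normal]
    (hfpf : ∀ h ∈ H, h ≠ 1 → E ⊓ centralizer {h} = ⊥) {p : ℕ}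
    (hexp : ∀ x : V, x ^ p = 1) (hE : (Nat.card E).Coprime p) (h : fix ψ E = ⊥)
    {S : Subgroup V} (hS : ∀ f ∈ E, ∀ c ∈ fix ψ H, ψ f c ∈ S) (v : V) : v ∈ S := by
  have := Fintype.ofFinite H
  have := Fintype.ofFinite E
  refine mem_of_pow_mem_of_coprime hE ?_ (by rw [hexp]; exact S.one_mem)
  rw [← prod_trace le_normalizer_of_normal hfpf h v]
  exact prod_mem fun f _ => hS f f.2 _ (prod_mem_fix ψ H _)

end Elem

theorem card_fix_eq_mul [Finite G] (φ : A →* MulAut G) (H : Subgroup A) {N : Subgroup G}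
    [N.Normal] (hN : AutInv φ N) :
    Nat.card (fix φ H) =
      Nat.card (fix (subAut φ N hN) H) * Nat.card ((fix φ H).map (QuotientGroup.mk' N)) := by
  have e : (fix (subAut φ N hN) H).map N.subtype = N ⊓ fix φ H := by
    ext x
    constructor
    · rintro ⟨y, hy, rfl⟩
      exact ⟨y.2, mem_fix.2 fun a ha => congrArg Subtype.val (mem_fix.1 hy a ha)⟩
    · rintro ⟨h1, h2⟩
      exact ⟨⟨x, h1⟩, mem_fix.2 fun a ha => Subtype.ext (mem_fix.1 h2 a ha), rfl⟩
  rw [← card_map_of_injective N.subtype_injective, e, ← relIndex_ker, QuotientGroup.ker_mk',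
    ← inf_relIndex_right]
  rw [relIndex, ← Nat.card_congr (subgroupOfEquivOfLe inf_le_right).toEquiv]
  exact (card_mul_index _).symm

open scoped IsMulCommutative in
theorem main_aux [Finite A] {F H : Subgroup A} [F.Normal] (hF : Group.IsNilpotent F)
    (hfpf : ∀ h ∈ H, h ≠ 1 → F ⊓ centralizer {h} = ⊥) (n : ℕ) :
    ∀ (G : Type u) [Group G] [Finite G] (φ : A →* MulAut G), Nat.card G = n →
      Group.IsSolvable G → fix φ F = ⊥ → Nat.card G = Nat.card (fix φ H) ^ Nat.card H ∧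
      ∀ S : Subgroup G, (∀ f ∈ F, ∀ c ∈ fix φ H, φ f c ∈ S) → S = ⊤ := by
  induction n using Nat.strong_induction_on with
  | _ n ih =>
  intro G _ _ φ hn hs h
  rcases subsingleton_or_nontrivial G with h1 | h1
  · exact ⟨by simp [Nat.card_unique], fun S _ => Subsingleton.elim _ _⟩
  obtain ⟨p, M, hp, _, hM, -, hM1, _, hexp⟩ := exists_inv_elem' (φ := φ) (K := ⊤) autInv_top
    inferInstance top_ne_bot
  have hMp : IsPGroup p M := Core.isPGroup_of_forall_pow_eq_one hexp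
  obtain ⟨i1, i2⟩ := ih _ (hn ▸ card_quot_lt hM1) (G ⧸ M) (quotAut φ M hM) rfl inferInstance
    (fix_quot hF h hM inferInstance)
  rw [fix_quot_eq_map hF hfpf hM inferInstance (freeOn_of_fix h M)] at i1 i2
  obtain ⟨E₁, E₂, -, _, -, h2, h3, h4, hsp⟩ := exists_split F hF hp
  have hb := fix_eq_bot_of_pgroup hp hMp h3 hsp (fix_sub_eq_bot h hM)
  have hf2 : ∀ h ∈ H, h ≠ 1 → E₂ ⊓ centralizer {h} = ⊥ := fun k hk hk1 =>
    Frob.fpf_mono h2 (hfpf k hk hk1)
  have hexp' : ∀ x : M, x ^ p = 1 := fun x => Subtype.ext (hexp x x.2)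
  constructor
  · have hs2 : Group.IsSolvable E₂ := Core.isSolvable_of_le h2
    rw [card_fix_eq_mul φ H hM, mul_pow, ← i1, ← card_elem hs2 hf2 hp hexp' h4 hb, mul_comm]
    exact card_eq_card_quotient_mul_card_subgroup M
  · intro S hS
    have hMS : M ≤ S := fun x hx =>
      gen_elem hf2 hexp' h4 hb (S := S.subgroupOf M) (fun f hf c hc => hS f (h2 hf) c
        (mem_fix.2 fun a ha => congrArg Subtype.val (mem_fix.1 hc a ha))) ⟨x, hx⟩
    have := i2 (S.map (QuotientGroup.mk' M)) (by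
      rintro f hf _ ⟨c, hc, rfl⟩
      exact ⟨_, hS f hf c hc, rfl⟩)
    rw [← comap_map_eq_self (f := QuotientGroup.mk' M) (H := S) (by simpa using hMS), this,
      comap_top]

/-- The order formula. -/
theorem card_eq [Finite G] [Finite A] {φ : A →* MulAut G} {F H : Subgroup A} [F.Normal]
    (hF : Group.IsNilpotent F) (hfpf : ∀ h ∈ H, h ≠ 1 → F ⊓ centralizer {h} = ⊥)
    (hs : Group.IsSolvable G) (h : fix φ F = ⊥) :
    Nat.card G = Nat.card (fix φ H) ^ Nat.card H :=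
  (main_aux hF hfpf _ G φ rfl hs h).1

/-- Generation by the conjugates of the fixed points of the complement. -/
theorem gen [Finite G] [Finite A] {φ : A →* MulAut G} {F H : Subgroup A} [F.Normal]
    (hF : Group.IsNilpotent F) (hfpf : ∀ h ∈ H, h ≠ 1 → F ⊓ centralizer {h} = ⊥)
    (hs : Group.IsSolvable G) (h : fix φ F = ⊥) {S : Subgroup G}
    (hS : ∀ f ∈ F, ∀ c ∈ fix φ H, φ f c ∈ S) : S = ⊤ :=
  (main_aux hF hfpf _ G φ rfl hs h).2 S hS

end CfsgLib.FPD
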