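import Cfsg.Agent.Lib.FPD.Bas

/-!
The unique invariant Sylow subgroup of a solvable group with a fixed-point-free nilpotent group of
automorphisms.
-/

set_option autoImplicit false

namespace CfsgLib.FPD

open Subgroup CfsgLib.Coprime CfsgLib.Solv CfsgLib.KMS Cfsg
open scoped Pointwise

universe u v

variable {G : Type u} {A : Type v} [Group G] [Group A]

theorem exists_smul_of_map_eq [Finite G] {p : ℕ} [Fact p.Prime] {M : Subgroup G} [M.Normal]
    {P Q : Sylow p G} (h : (P : Subgroup G).map (QuotientGroup.mk' M) =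
      (Q : Subgroup G).map (QuotientGroup.mk' M)) : ∃ m ∈ M, m • P = Q := by
  have h1 : (P : Subgroup G) ⊔ M = (Q : Subgroup G) ⊔ M := by
    have := congrArg (comap (QuotientGroup.mk' M)) h
    simpa only [comap_map_eq, QuotientGroup.ker_mk'] using this
  have hP : (P : Subgroup G) ≤ (P : Subgroup G) ⊔ M := le_sup_left
  have hQ : (Q : Subgroup G) ≤ (P : Subgroup G) ⊔ M := h1 ▸ le_sup_left
  obtain ⟨k, hk⟩ := MulAction.exists_smul_eq (↥((P : Subgroup G) ⊔ M)) (P.subtype hP) (Q.subtype hQ)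
  rw [Sylow.smul_subtype] at hk
  have hk' : (k : G) • P = Q := Sylow.subtype_injective hk
  have hk2 : (k : G) ∈ M ⊔ (P : Subgroup G) := (sup_comm (P : Subgroup G) M).le k.2
  obtain ⟨m, hm, y, hy, e⟩ := mem_sup_of_normal_left.1 hk2
  refine ⟨m, hm, ?_⟩
  rw [← hk', ← e, mul_smul, Sylow.smul_eq_iff_mem_normalizer.2 (le_normalizer hy)]

theorem smul_sylow_eq_iff [Finite G] {p : ℕ} (σ : MulAut G) (P : Sylow p G) :
    σ • P = P ↔ ∀ x ∈ (P : Subgroup G), σ x ∈ (P : Subgroup G) := by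
  constructor
  · intro h x hx
    rw [← h]
    exact smul_mem_pointwise_smul x σ _ hx
  · intro h
    refine Sylow.ext (eq_of_le_of_card_ge ?_ ?_)
    · rintro _ ⟨x, hx, rfl⟩
      exact h x hx
    · exact (card_map_of_injective (f := σ.toMonoidHom) σ.injective).ge

theorem sylow_aux [Finite A] {F : Subgroup A} [F.Normal] (hF : Group.IsNilpotent F) (p : ℕ)
    [Fact p.Prime] (n : ℕ) :
    ∀ (G : Type u) [Group G] [Finite G] (φ : A →* MulAut G), Nat.card G = n →
      Group.IsSolvable G → fix φ F = ⊥ → ∃ P : Sylow p G, (∀ a, φ a • P = P) ∧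
        ∀ Q : Sylow p G, (∀ f ∈ F, φ f • Q = Q) → Q = P := by
  induction n using Nat.strong_induction_on with
  | _ n ih =>
  intro G _ _ φ hn hs h
  rcases subsingleton_or_nontrivial G with h1 | h1
  · have e : ∀ P Q : Sylow p G, P = Q := fun P Q => Sylow.ext (Subsingleton.elim _ _)
    exact ⟨default, fun _ => e _ _, fun _ _ => e _ _⟩
  obtain ⟨q, M, hq, _, hM, -, hM1, _, hexp⟩ := exists_inv_elem' (φ := φ) (K := ⊤) autInv_top
    inferInstance top_ne_bot
  have hMq : IsPGroup q M := Core.isPGroup_of_forall_pow_eq_one hexp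
  obtain ⟨Pb, hPb, huniq⟩ := ih _ (hn ▸ card_quot_lt hM1) (G ⧸ M) (quotAut φ M hM) rfl
    inferInstance (fix_quot hF h hM inferInstance)
  have hsur := QuotientGroup.mk'_surjective M
  have hmap : ∀ (a : A) (Q : Sylow p G), (φ a • Q).mapSurjective hsur =
      quotAut φ M hM a • Q.mapSurjective hsur := fun a Q => by
    refine Sylow.ext ?_
    change ((Q : Subgroup G).map (φ a).toMonoidHom).map _ =
      ((Q : Subgroup G).map _).map (quotAut φ M hM a).toMonoidHom
    rw [map_map, map_map]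
    rfl
  have hconj : ∀ P Q : Sylow p G, P.mapSurjective hsur = Q.mapSurjective hsur →
      ∃ m ∈ M, m • P = Q := fun P Q e =>
    exists_smul_of_map_eq (congrArg (fun S : Sylow p (G ⧸ M) => (S : Subgroup (G ⧸ M))) e)
  have hmM : ∀ m ∈ M, ∀ P : Sylow p G, (m • P).mapSurjective hsur = P.mapSurjective hsur := by
    intro m hm P
    refine Sylow.ext ?_
    change ((P : Subgroup G).map (MulAut.conj m).toMonoidHom).map _ = (P : Subgroup G).map _
    rw [map_map]
    congr 1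
    ext x
    simp [(QuotientGroup.eq_one_iff m).2 hm]
  obtain ⟨P₀, hP₀⟩ := Sylow.mapSurjective_surjective hsur p Pb
  have hinv : ∀ Q : Sylow p G, (∀ f ∈ F, φ f • Q = Q) → Q.mapSurjective hsur = Pb :=
    fun Q hQ => huniq _ fun f hf => by rw [← hmap, hQ f hf]
  by_cases hqp : q = p
  · subst hqp
    have key : ∀ Q : Sylow q G, Q.mapSurjective hsur = Pb → Q = P₀ := fun Q hQ => by
      obtain ⟨m, hm, e⟩ := hconj Q P₀ (hQ.trans hP₀.symm)
      rw [← e, Sylow.smul_eq_iff_mem_normalizer.2 (le_normalizer (hMq.le_sylow_of_normal Q hm))]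
    exact ⟨P₀, fun a => key _ (by rw [hmap, hP₀, hPb]), fun Q hQ => key Q (hinv Q hQ)⟩
  have := Fact.mk hq
  obtain ⟨E₁, E₂, -, hE₂, -, h2, h3, h4, hsp⟩ := exists_split F hF hq
  have hb := fix_eq_bot_of_pgroup hq hMq h3 hsp (fix_sub_eq_bot h hM)
  let _ : MulAction E₂ (Sylow p G) := MulAction.compHom _ (φ.comp E₂.subtype)
  have hsm : ∀ (a : E₂) (Q : Sylow p G), a • Q = φ a • Q := fun _ _ => rfl
  have hc : ∀ (a : E₂) (g : G) (x : Sylow p G),
      a • g • x = (φ.comp E₂.subtype) a g • a • x := fun a g x => by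
    change φ a • MulAut.conj g • x = MulAut.conj (φ a g) • φ a • x
    rw [← mul_smul, ← mul_smul]
    congr 1
    ext y
    simp
  have hcop := coprime_card_of_isPGroup hMq h4
  obtain ⟨k, hk, hfix⟩ := aut_exists_fixed_in_orbit hc (K := M) (fun a => hM a) hcop
    (Or.inr inferInstance) P₀ (fun a => by
      obtain ⟨m, hm, e⟩ := hconj P₀ (φ a • P₀) (by rw [hmap, hP₀, hPb])
      exact ⟨m, hm, e.symm⟩)
  have key : ∀ Q : Sylow p G, Q.mapSurjective hsur = Pb → (∀ f : E₂, f • Q = Q) → Q = k • P₀ := by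
    intro Q hQ hQ'
    obtain ⟨m, hm, e⟩ := hconj (k • P₀) Q (by rw [hmM k hk, hP₀, hQ])
    obtain ⟨c, hc1, hc2⟩ := aut_exists_autFix_smul_eq hc (K := M) (fun a => hM a) hcop
      (Or.inr inferInstance) (k • P₀) hm hfix (by rw [e]; exact hQ')
    have : c = 1 := congrArg Subtype.val (fix_eq_bot_iff.1 hb ⟨c, hc1.1⟩ fun a ha =>
      Subtype.ext (hc1.2 ⟨a, ha⟩))
    rw [← e, ← hc2, this, one_smul]
  refine ⟨k • P₀, fun a => key _ (by rw [hmap, hmM k hk, hP₀, hPb]) fun f => ?_,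
    fun Q hQ => key Q (hinv Q hQ) fun f => hQ f (h2 f.2)⟩
  have := hfix ⟨a⁻¹ * f * a, by simpa using hE₂.conj_mem f f.2 a⁻¹⟩
  rw [hsm] at this ⊢
  conv_rhs => rw [← this]
  rw [← mul_smul, ← mul_smul, ← map_mul, ← map_mul]
  congr 2
  group

/-- There is an `A`-invariant Sylow subgroup, and it is the only `F`-invariant one. -/
theorem sylow [Finite G] [Finite A] {φ : A →* MulAut G} {F : Subgroup A} [F.Normal]
    (hF : Group.IsNilpotent F) (hs : Group.IsSolvable G) (h : fix φ F = ⊥) (p : ℕ)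
    [Fact p.Prime] : ∃ P : Sylow p G, AutInv φ P ∧
      ∀ Q : Sylow p G, (∀ f ∈ F, ∀ x ∈ (Q : Subgroup G), φ f x ∈ (Q : Subgroup G)) → Q = P := by
  obtain ⟨P, h1, h2⟩ := sylow_aux hF p _ G φ rfl hs h
  exact ⟨P, fun a => (smul_sylow_eq_iff _ _).1 (h1 a),
    fun Q hQ => h2 Q fun f hf => (smul_sylow_eq_iff _ _).2 (hQ f hf)⟩

end CfsgLib.FPD
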