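import Cfsg.Agent.Lib.FPD.Red
import Cfsg.Agent.Lib.FPD.Syl
import Cfsg.Agent.Lib.Cop.Frame
import Cfsg.Agent.Lib.Frob.Thompson

/-!
Consequences of the non-existence of the frame `Cop.Fr`.
-/

set_option autoImplicit false

namespace CfsgLib.FPD

open Subgroup Cfsg CfsgLib.LAE CfsgLib.KMS CfsgLib.Coprime

universe u v

/-- There is no minimal counterexample. -/
def Box : Prop :=
  ∀ (X : Type u) [Group X] [Finite X] (A G S : Subgroup X), Cop.Fr A G S → False

theorem Box.coreN (h : Box.{u}) : CoreN.{u} := by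
  intro X _ _ A G hs hA hf
  have := hs.nrm
  have H := hs.supHy hA hf
  obtain ⟨S, h1, h2⟩ := H.exists_sylow 2
  exact h X A G S ⟨hs.nrm, hs.top, hs.simple, hs.nc, h1, h2, H.noFix, H.noOm, hs.solv,
    fun t ht _ hx => H.eq_one_of_class ht hx⟩

theorem Box.coreC (h : Box.{u}) : CoreC.{u} := by
  intro X _ _ A G hs hc ho
  have := hs.nrm
  have gl : ∀ W : Subgroup X, (∀ a ∈ A, ∃ k ∈ G, ∃ w ∈ W, a = k * w) →
      ∃ k ∈ G, ∀ a ∈ A, k * a * k⁻¹ ∈ W := fun W hW =>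
    Coprime.exists_conj_mem_of_subset_mul hs.AG hc (solv_or hc) hW
  obtain ⟨S, hS⟩ := exists_isSylowIn 2 G
  obtain ⟨g, hg, h1⟩ := gl (normalizer (S : Set X)) fun a ha => hS.frattini (hs.AG ha)
  have hf := Cop.noFix_of_coprime hs.AG hc ho
  refine h X A G (conjS g⁻¹ S) ⟨hs.nrm, hs.top, hs.simple, hs.nc, hS.conj_of_mem (G.inv_mem hg),
    fun a ha => ?_, hf, Cop.noOm_of_coprime hf hc, hs.solv, fun t ht h2 hx => ?_⟩
  · rw [← conjS_normalizer, mem_conjS]
    simpa using h1 a ha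
  · obtain ⟨k, hk, h3⟩ := gl (centralizer {t}) fun a ha => by
      obtain ⟨y, hy, e⟩ := hx a ha
      refine ⟨y, hy, y⁻¹ * a, mem_centralizer_singleton_iff.2 ?_, by group⟩
      calc y⁻¹ * a * t = y⁻¹ * (a * t * a⁻¹) * a := by group
        _ = t * (y⁻¹ * a) := by rw [e]; group
    have h4 : k⁻¹ * t * k ∈ (⊥ : Subgroup X) := by
      refine hf ⊥ bot_le le_normalizer_of_normal _ (mul_mem (mul_mem (inv_mem hk) ht) hk)
        (le_normalizer_of_normal (mem_top _)) (mem_bot.2 ?_) fun a ha => mem_bot.2 ?_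
      · calc k⁻¹ * t * k * (k⁻¹ * t * k) = k⁻¹ * (t * t) * k := by group
          _ = 1 := by rw [h2]; group
      · rw [commutatorElement_eq_one_iff_mul_comm]
        have h5 := mem_centralizer_singleton_iff.1 (h3 a ha)
        calc k⁻¹ * t * k * a = k⁻¹ * (t * (k * a * k⁻¹)) * k := by group
          _ = a * (k⁻¹ * t * k) := by rw [← h5]; group
    calc t = k * (k⁻¹ * t * k) * k⁻¹ := by group
      _ = 1 := by rw [mem_bot.1 h4]; group

section

variable {G : Type u} {A : Type v} [Group G] [Group A] [Finite G]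

/-- Nilpotent fixed-point-free operator groups force solvability. -/
theorem Box.solN (h : Box.{u}) (φ : A →* MulAut G) {F : Subgroup A}
    (hF : Group.IsNilpotent F) (hf : fix φ F = ⊥) : Group.IsSolvable G := h.coreN.sol φ hF hf

/-- Coprime operator groups with fixed points of odd order force solvability. -/
theorem Box.solC (h : Box.{u}) (φ : A →* MulAut G) {F : Subgroup A}
    (hF : (Nat.card F).Coprime (Nat.card G)) (hf : Odd (Nat.card (fix φ F))) :
    Group.IsSolvable G := h.coreC.sol φ hF hf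

theorem Box.solN_sub (h : Box.{u}) {φ : A →* MulAut G} {F : Subgroup A}
    (hF : Group.IsNilpotent F) {N : Subgroup G} (hN : AutInv φ N) (hf : FreeOn φ F N) :
    Group.IsSolvable N := h.solN _ hF (hf.fix_sub hN)

/-- A fixed-point-free automorphism forces solvability. -/
theorem Box.sol_aut (h : Box.{u}) (α : MulAut G) (hf : ∀ g : G, α g = g → g = 1) :
    Group.IsSolvable G :=
  h.solN (MonoidHom.id _) (F := zpowers α)
    (@CommGroup.isNilpotent _ IsCyclic.commGroup)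
    (fix_eq_bot_iff.2 fun g hg => hf g (hg α (mem_zpowers α)))

variable [Finite A] [MulDistribMulAction A G]

omit [Finite A] in
theorem Box.s4124 (h : Box.{u}) (hA : Group.IsNilpotent A)
    (hCF : ∀ g : G, (∀ a : A, a • g = g) → g = 1) : Group.IsSolvable G :=
  h.solN (MulDistribMulAction.toMulAut A G) (F := ⊤) inferInstance
    (fix_eq_bot_iff.2 fun g hg => hCF g fun a => hg a (mem_top a))

theorem Box.s4392 (h : Box.{u}) (hF : Group.IsNilpotent A)
    (hCF : ∀ g : G, (∀ f : A, f • g = g) → g = 1) (N : Subgroup G) [N.Normal]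
    (hN : ∀ (f : A) (n : G), n ∈ N → f • n ∈ N) (g : G) (hg : ∀ f : A, g⁻¹ * f • g ∈ N) :
    g ∈ N := by
  have := h.s4124 hF hCF
  have hf : fix (MulDistribMulAction.toMulAut A G) ⊤ = ⊥ :=
    fix_eq_bot_iff.2 fun g hg => hCF g fun a => hg a (mem_top a)
  obtain ⟨c, hc, h1⟩ := lift_ker (φ := MulDistribMulAction.toMulAut A G) (F := ⊤) inferInstance
    (N := N) (fun a n hn => hN a n hn) inferInstance (freeOn_of_fix hf N) (g := g)
    fun a _ => hg a
  rw [hf, mem_bot] at hc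
  rwa [hc, inv_one, one_mul] at h1

variable (Fk Hc : Subgroup A) [Fk.Normal] (hHc : Cfsg.IsFrobeniusComplement Hc)
  (hker : Cfsg.frobeniusKernel Hc = (Fk : Set A))

include hHc hker

omit [Fk.Normal] [MulDistribMulAction A G] in
theorem frob_ker : Group.IsNilpotent Fk ∧ ∀ h ∈ Hc, h ≠ 1 → Fk ⊓ centralizer {h} = ⊥ := by
  obtain ⟨N, h1, -, -, -, h2, h3⟩ := CfsgLib.Frob.exists_nilpotent_kernel hHc
  obtain rfl : N = Fk := SetLike.coe_injective (h1.trans hker)
  exact ⟨h3, h2⟩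

theorem Box.s4119 (h : Box.{u}) (hCF : ∀ g : G, (∀ f ∈ Fk, f • g = g) → g = 1) :
    Nat.card G = Nat.card {g : G | ∀ h ∈ Hc, h • g = g} ^ Nat.card Hc := by
  obtain ⟨h1, h2⟩ := frob_ker Fk Hc hHc hker
  have hf : fix (MulDistribMulAction.toMulAut A G) Fk = ⊥ := fix_eq_bot_iff.2 hCF
  rw [card_eq h1 h2 (h.solN _ h1 hf) hf]
  congr 1
  exact Nat.card_congr (Equiv.subtypeEquivRight fun g => mem_fix)

theorem Box.s4121 (h : Box.{u}) (N : Subgroup G) [N.Normal]
    (hNA : ∀ (a : A) (n : G), n ∈ N → a • n ∈ N)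
    (hCNF : ∀ n ∈ N, (∀ f ∈ Fk, f • n = n) → n = 1)
    (g : G) (hg : ∀ h ∈ Hc, g⁻¹ * h • g ∈ N) :
    ∃ c : G, (∀ h ∈ Hc, h • c = c) ∧ c⁻¹ * g ∈ N := by
  obtain ⟨h1, h2⟩ := frob_ker Fk Hc hHc hker
  have hN : AutInv (MulDistribMulAction.toMulAut A G) N := fun a n hn => hNA a n hn
  have hf : FreeOn (MulDistribMulAction.toMulAut A G) Fk N := hCNF
  obtain ⟨c, h3, h4⟩ := lift h1 h2 hN (h.solN_sub h1 hN hf) hf hg
  exact ⟨c, mem_fix.1 h3, h4⟩

theorem Box.s4122 (h : Box.{u}) (hCF : ∀ g : G, (∀ f ∈ Fk, f • g = g) → g = 1) :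
    Subgroup.closure {x : G | ∃ f ∈ Fk, ∃ c : G, (∀ h ∈ Hc, h • c = c) ∧ x = f • c} = ⊤ := by
  obtain ⟨h1, h2⟩ := frob_ker Fk Hc hHc hker
  have hf : fix (MulDistribMulAction.toMulAut A G) Fk = ⊥ := fix_eq_bot_iff.2 hCF
  exact gen h1 h2 (h.solN _ h1 hf) hf fun f hf c hc =>
    Subgroup.subset_closure ⟨f, hf, c, mem_fix.1 hc, rfl⟩

theorem Box.s4123 (h : Box.{u}) (hCF : ∀ g : G, (∀ f ∈ Fk, f • g = g) → g = 1) (p : ℕ)
    [Fact p.Prime] :
    ∃! P : Sylow p G, ∀ (a : A) (x : G), x ∈ (P : Subgroup G) → a • x ∈ (P : Subgroup G) := by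
  obtain ⟨h1, h2⟩ := frob_ker Fk Hc hHc hker
  have hf : fix (MulDistribMulAction.toMulAut A G) Fk = ⊥ := fix_eq_bot_iff.2 hCF
  obtain ⟨P, h3, h4⟩ := sylow h1 (h.solN _ h1 hf) hf p
  exact ⟨P, fun a x hx => h3 a x hx, fun Q hQ => h4 Q fun f _ x hx => hQ f x hx⟩

end

end CfsgLib.FPD
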